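import Cfsg.Agent.Lib.Helper9.TCData.Fi23C1.Main

set_option autoImplicit false
set_option maxRecDepth 1000000

namespace Cfsg.Agent.Helper9.TCData.Fi23C1
open Cfsg.Agent.Helper9.TC2

theorem ma_20 : allRange 13800 280 (fun u => chkAux tab aux u) = true := by decide +kernel

theorem m2_0 : allRange 0 75 (fun u => chkFix tab mwordsA u) = true := by decide +kernel

theorem m2_1 : allRange 75 75 (fun u => chkFix tab mwordsA u) = true := by decide +kernel

theorem m2_2 : allRange 150 75 (fun u => chkFix tab mwordsA u) = true := by decide +kernel

theorem m2_3 : allRange 225 75 (fun u => chkFix tab mwordsA u) = true := by decide +kernel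

theorem m2_4 : allRange 300 75 (fun u => chkFix tab mwordsA u) = true := by decide +kernel

theorem m2_5 : allRange 375 75 (fun u => chkFix tab mwordsA u) = true := by decide +kernel

theorem m2_6 : allRange 450 75 (fun u => chkFix tab mwordsA u) = true := by decide +kernel


end Cfsg.Agent.Helper9.TCData.Fi23C1
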