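import Cfsg.Agent.Lib.Helper9.TCData.Fi23C1.Main

set_option autoImplicit false
set_option maxRecDepth 1000000

namespace Cfsg.Agent.Helper9.TCData.Fi23C1
open Cfsg.Agent.Helper9.TC2

theorem m2_47 : allRange 3525 75 (fun u => chkFix tab mwordsA u) = true := by decide +kernel

theorem m2_48 : allRange 3600 75 (fun u => chkFix tab mwordsA u) = true := by decide +kernel

theorem m2_49 : allRange 3675 75 (fun u => chkFix tab mwordsA u) = true := by decide +kernel

theorem m2_50 : allRange 3750 75 (fun u => chkFix tab mwordsA u) = true := by decide +kernel

theorem m2_51 : allRange 3825 75 (fun u => chkFix tab mwordsA u) = true := by decide +kernel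

theorem m2_52 : allRange 3900 75 (fun u => chkFix tab mwordsA u) = true := by decide +kernel

theorem m2_53 : allRange 3975 75 (fun u => chkFix tab mwordsA u) = true := by decide +kernel

theorem m2_54 : allRange 4050 75 (fun u => chkFix tab mwordsA u) = true := by decide +kernel


end Cfsg.Agent.Helper9.TCData.Fi23C1
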