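import Cfsg.Agent.Lib.Helper9.TCData.Fi23C1.Main

set_option autoImplicit false
set_option maxRecDepth 1000000

namespace Cfsg.Agent.Helper9.TCData.Fi23C1
open Cfsg.Agent.Helper9.TC2

theorem m2_95 : allRange 7125 75 (fun u => chkFix tab mwordsA u) = true := by decide +kernel

theorem m2_96 : allRange 7200 75 (fun u => chkFix tab mwordsA u) = true := by decide +kernel

theorem m2_97 : allRange 7275 75 (fun u => chkFix tab mwordsA u) = true := by decide +kernel

theorem m2_98 : allRange 7350 75 (fun u => chkFix tab mwordsA u) = true := by decide +kernel

theorem m2_99 : allRange 7425 75 (fun u => chkFix tab mwordsA u) = true := by decide +kernel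

theorem m2_100 : allRange 7500 75 (fun u => chkFix tab mwordsA u) = true := by decide +kernel

theorem m2_101 : allRange 7575 75 (fun u => chkFix tab mwordsA u) = true := by decide +kernel

theorem m2_102 : allRange 7650 75 (fun u => chkFix tab mwordsA u) = true := by decide +kernel


end Cfsg.Agent.Helper9.TCData.Fi23C1
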