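import Cfsg.Agent.Lib.Helper9.TCData.Fi23C1.Main

set_option autoImplicit false
set_option maxRecDepth 1000000

namespace Cfsg.Agent.Helper9.TCData.Fi23C1
open Cfsg.Agent.Helper9.TC2

theorem m2_167 : allRange 12525 75 (fun u => chkFix tab mwordsA u) = true := by decide +kernel

theorem m2_168 : allRange 12600 75 (fun u => chkFix tab mwordsA u) = true := by decide +kernel

theorem m2_169 : allRange 12675 75 (fun u => chkFix tab mwordsA u) = true := by decide +kernel

theorem m2_170 : allRange 12750 75 (fun u => chkFix tab mwordsA u) = true := by decide +kernel

theorem m2_171 : allRange 12825 75 (fun u => chkFix tab mwordsA u) = true := by decide +kernel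

theorem m2_172 : allRange 12900 75 (fun u => chkFix tab mwordsA u) = true := by decide +kernel

theorem m2_173 : allRange 12975 75 (fun u => chkFix tab mwordsA u) = true := by decide +kernel

theorem m2_174 : allRange 13050 75 (fun u => chkFix tab mwordsA u) = true := by decide +kernel


end Cfsg.Agent.Helper9.TCData.Fi23C1
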