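import Cfsg.Agent.Lib.Helper9.TCData.Fi23C1.Main

set_option autoImplicit false
set_option maxRecDepth 1000000

namespace Cfsg.Agent.Helper9.TCData.Fi23C1
open Cfsg.Agent.Helper9.TC2

theorem e4_5 : allRange 12750 2420 (fun u => chkE tab 4 u) = true := by decide +kernel

theorem e4_6 : allRange 15170 3250 (fun u => chkE tab 4 u) = true := by decide +kernel

theorem e4_7 : allRange 18420 2170 (fun u => chkE tab 4 u) = true := by decide +kernel

theorem e5_0 : allRange 0 2317 (fun u => chkE tab 5 u) = true := by decide +kernel

theorem e5_1 : allRange 2317 2148 (fun u => chkE tab 5 u) = true := by decide +kernel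

theorem e5_2 : allRange 4465 2182 (fun u => chkE tab 5 u) = true := by decide +kernel

theorem e5_3 : allRange 6647 2969 (fun u => chkE tab 5 u) = true := by decide +kernel

theorem e5_4 : allRange 9616 2709 (fun u => chkE tab 5 u) = true := by decide +kernel


end Cfsg.Agent.Helper9.TCData.Fi23C1
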