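import Cfsg.Agent.Lib.Helper9.TCData.Fi23C1.Main

set_option autoImplicit false
set_option maxRecDepth 1000000

namespace Cfsg.Agent.Helper9.TCData.Fi23C1
open Cfsg.Agent.Helper9.TC2

theorem e6_4 : allRange 9894 2586 (fun u => chkE tab 6 u) = true := by decide +kernel

theorem e6_5 : allRange 12480 2616 (fun u => chkE tab 6 u) = true := by decide +kernel

theorem e6_6 : allRange 15096 2674 (fun u => chkE tab 6 u) = true := by decide +kernel

theorem e6_7 : allRange 17770 2820 (fun u => chkE tab 6 u) = true := by decide +kernel

theorem e7_0 : allRange 0 2707 (fun u => chkE tab 7 u) = true := by decide +kernel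

theorem e7_1 : allRange 2707 2757 (fun u => chkE tab 7 u) = true := by decide +kernel

theorem e7_2 : allRange 5464 3222 (fun u => chkE tab 7 u) = true := by decide +kernel

theorem e7_3 : allRange 8686 3475 (fun u => chkE tab 7 u) = true := by decide +kernel


end Cfsg.Agent.Helper9.TCData.Fi23C1
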