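import Cfsg.Agent.Lib.Helper9.TCData.Fi23C1.Main

set_option autoImplicit false
set_option maxRecDepth 1000000

namespace Cfsg.Agent.Helper9.TCData.Fi23C1
open Cfsg.Agent.Helper9.TC2

theorem e7_4 : allRange 12161 3286 (fun u => chkE tab 7 u) = true := by decide +kernel

theorem e7_5 : allRange 15447 2540 (fun u => chkE tab 7 u) = true := by decide +kernel

theorem e7_6 : allRange 17987 2603 (fun u => chkE tab 7 u) = true := by decide +kernel

theorem e8_0 : allRange 0 2684 (fun u => chkE tab 8 u) = true := by decide +kernel

theorem e8_1 : allRange 2684 3797 (fun u => chkE tab 8 u) = true := by decide +kernel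

theorem e8_2 : allRange 6481 4432 (fun u => chkE tab 8 u) = true := by decide +kernel

theorem e8_3 : allRange 10913 3240 (fun u => chkE tab 8 u) = true := by decide +kernel

theorem e8_4 : allRange 14153 2642 (fun u => chkE tab 8 u) = true := by decide +kernel


end Cfsg.Agent.Helper9.TCData.Fi23C1
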