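import Cfsg.Agent.Lib.Helper9.TCData.Fi23C1.S0
import Cfsg.Agent.Lib.Helper9.TCData.Fi23C1.S1
import Cfsg.Agent.Lib.Helper9.TCData.Fi23C1.S2
import Cfsg.Agent.Lib.Helper9.TCData.Fi23C1.S3
import Cfsg.Agent.Lib.Helper9.TCData.Fi23C1.S4
import Cfsg.Agent.Lib.Helper9.TCData.Fi23C1.S5
import Cfsg.Agent.Lib.Helper9.TCData.Fi23C1.S6
import Cfsg.Agent.Lib.Helper9.TCData.Fi23C1.S7
import Cfsg.Agent.Lib.Helper9.TCData.Fi23C1.S8
import Cfsg.Agent.Lib.Helper9.TCData.Fi23C1.S9
import Cfsg.Agent.Lib.Helper9.TCData.Fi23C1.S10
import Cfsg.Agent.Lib.Helper9.TCData.Fi23C1.S11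
import Cfsg.Agent.Lib.Helper9.TCData.Fi23C1.S12
import Cfsg.Agent.Lib.Helper9.TCData.Fi23C1.S13
import Cfsg.Agent.Lib.Helper9.TCData.Fi23C1.S14
import Cfsg.Agent.Lib.Helper9.TCData.Fi23C1.S15
import Cfsg.Agent.Lib.Helper9.TCData.Fi23C1.S16
import Cfsg.Agent.Lib.Helper9.TCData.Fi23C1.S17
import Cfsg.Agent.Lib.Helper9.TCData.Fi23C1.S18
import Cfsg.Agent.Lib.Helper9.TCData.Fi23C1.S19
import Cfsg.Agent.Lib.Helper9.TCData.Fi23C1.S20
import Cfsg.Agent.Lib.Helper9.TCData.Fi23C1.S21
import Cfsg.Agent.Lib.Helper9.TCData.Fi23C1.S22
import Cfsg.Agent.Lib.Helper9.TCData.Fi23C1.S23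
import Cfsg.Agent.Lib.Helper9.TCData.Fi23C1.S24
import Cfsg.Agent.Lib.Helper9.TCData.Fi23C1.S25
import Cfsg.Agent.Lib.Helper9.TCData.Fi23C1.S26
import Cfsg.Agent.Lib.Helper9.TCData.Fi23C1.S27
import Cfsg.Agent.Lib.Helper9.TCData.Fi23C1.S28
import Cfsg.Agent.Lib.Helper9.TCData.Fi23C1.S29
import Cfsg.Agent.Lib.Helper9.TCData.Fi23C1.S30
import Cfsg.Agent.Lib.Helper9.TCData.Fi23C1.S31
import Cfsg.Agent.Lib.Helper9.TCData.Fi23C1.S32
import Cfsg.Agent.Lib.Helper9.TCData.Fi23C1.S33
import Cfsg.Agent.Lib.Helper9.TCData.Fi23C1.S34
import Cfsg.Agent.Lib.Helper9.TCData.Fi23C1.S35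
import Cfsg.Agent.Lib.Helper9.TCData.Fi23C1.S36
import Cfsg.Agent.Lib.Helper9.TCData.Fi23C1.S37
import Cfsg.Agent.Lib.Helper9.TCData.Fi23C1.S38
import Cfsg.Agent.Lib.Helper9.TCData.Fi23C1.S39
import Cfsg.Agent.Lib.Helper9.TCData.Fi23C1.S40
import Cfsg.Agent.Lib.Helper9.TCData.Fi23C1.S41
import Cfsg.Agent.Lib.Helper9.TCData.Fi23C1.S42
import Cfsg.Agent.Lib.Helper9.TCData.Fi23C1.S43
import Cfsg.Agent.Lib.Helper9.TCData.Fi23C1.S44
import Cfsg.Agent.Lib.Helper9.TCData.Fi23C1.S45
import Cfsg.Agent.Lib.Helper9.TCData.Fi23C1.S46
import Cfsg.Agent.Lib.Helper9.TCData.Fi23C1.S47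

set_option autoImplicit false
set_option maxRecDepth 1000000

namespace Cfsg.Agent.Helper9.TCData.Fi23C1
open Cfsg.Agent.Helper9.TC2


theorem hE0 : ∀ u < 20590, chkE tab 0 u = true := by
  have h0 : ∀ u < 0, (fun u => chkE tab 0 u) u = true := range_zero
  have h1 : ∀ u < 2035, (fun u => chkE tab 0 u) u = true := ext_range (a := 0) (len := 2035) h0 e0_0
  have h2 : ∀ u < 4111, (fun u => chkE tab 0 u) u = true := ext_range (a := 2035) (len := 2076) h1 e0_1
  have h3 : ∀ u < 6252, (fun u => chkE tab 0 u) u = true := ext_range (a := 4111) (len := 2141) h2 e0_2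
  have h4 : ∀ u < 9173, (fun u => chkE tab 0 u) u = true := ext_range (a := 6252) (len := 2921) h3 e0_3
  have h5 : ∀ u < 11999, (fun u => chkE tab 0 u) u = true := ext_range (a := 9173) (len := 2826) h4 e0_4
  have h6 : ∀ u < 14274, (fun u => chkE tab 0 u) u = true := ext_range (a := 11999) (len := 2275) h5 e0_5
  have h7 : ∀ u < 16736, (fun u => chkE tab 0 u) u = true := ext_range (a := 14274) (len := 2462) h6 e0_6
  have h8 : ∀ u < 19327, (fun u => chkE tab 0 u) u = true := ext_range (a := 16736) (len := 2591) h7 e0_7
  have h9 : ∀ u < 20590, (fun u => chkE tab 0 u) u = true := ext_range (a := 19327) (len := 1263) h8 e0_8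
  exact h9

theorem hE1 : ∀ u < 20590, chkE tab 1 u = true := by
  have h0 : ∀ u < 0, (fun u => chkE tab 1 u) u = true := range_zero
  have h1 : ∀ u < 2056, (fun u => chkE tab 1 u) u = true := ext_range (a := 0) (len := 2056) h0 e1_0
  have h2 : ∀ u < 4148, (fun u => chkE tab 1 u) u = true := ext_range (a := 2056) (len := 2092) h1 e1_1
  have h3 : ∀ u < 6297, (fun u => chkE tab 1 u) u = true := ext_range (a := 4148) (len := 2149) h2 e1_2
  have h4 : ∀ u < 9154, (fun u => chkE tab 1 u) u = true := ext_range (a := 6297) (len := 2857) h3 e1_3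
  have h5 : ∀ u < 11995, (fun u => chkE tab 1 u) u = true := ext_range (a := 9154) (len := 2841) h4 e1_4
  have h6 : ∀ u < 14381, (fun u => chkE tab 1 u) u = true := ext_range (a := 11995) (len := 2386) h5 e1_5
  have h7 : ∀ u < 16826, (fun u => chkE tab 1 u) u = true := ext_range (a := 14381) (len := 2445) h6 e1_6
  have h8 : ∀ u < 19298, (fun u => chkE tab 1 u) u = true := ext_range (a := 16826) (len := 2472) h7 e1_7
  have h9 : ∀ u < 20590, (fun u => chkE tab 1 u) u = true := ext_range (a := 19298) (len := 1292) h8 e1_8
  exact h9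

theorem hE2 : ∀ u < 20590, chkE tab 2 u = true := by
  have h0 : ∀ u < 0, (fun u => chkE tab 2 u) u = true := range_zero
  have h1 : ∀ u < 2071, (fun u => chkE tab 2 u) u = true := ext_range (a := 0) (len := 2071) h0 e2_0
  have h2 : ∀ u < 4215, (fun u => chkE tab 2 u) u = true := ext_range (a := 2071) (len := 2144) h1 e2_1
  have h3 : ∀ u < 6456, (fun u => chkE tab 2 u) u = true := ext_range (a := 4215) (len := 2241) h2 e2_2
  have h4 : ∀ u < 9419, (fun u => chkE tab 2 u) u = true := ext_range (a := 6456) (len := 2963) h3 e2_3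
  have h5 : ∀ u < 12262, (fun u => chkE tab 2 u) u = true := ext_range (a := 9419) (len := 2843) h4 e2_4
  have h6 : ∀ u < 14687, (fun u => chkE tab 2 u) u = true := ext_range (a := 12262) (len := 2425) h5 e2_5
  have h7 : ∀ u < 17403, (fun u => chkE tab 2 u) u = true := ext_range (a := 14687) (len := 2716) h6 e2_6
  have h8 : ∀ u < 19916, (fun u => chkE tab 2 u) u = true := ext_range (a := 17403) (len := 2513) h7 e2_7
  have h9 : ∀ u < 20590, (fun u => chkE tab 2 u) u = true := ext_range (a := 19916) (len := 674) h8 e2_8
  exact h9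

theorem hE3 : ∀ u < 20590, chkE tab 3 u = true := by
  have h0 : ∀ u < 0, (fun u => chkE tab 3 u) u = true := range_zero
  have h1 : ∀ u < 2158, (fun u => chkE tab 3 u) u = true := ext_range (a := 0) (len := 2158) h0 e3_0
  have h2 : ∀ u < 4502, (fun u => chkE tab 3 u) u = true := ext_range (a := 2158) (len := 2344) h1 e3_1
  have h3 : ∀ u < 6864, (fun u => chkE tab 3 u) u = true := ext_range (a := 4502) (len := 2362) h2 e3_2
  have h4 : ∀ u < 10095, (fun u => chkE tab 3 u) u = true := ext_range (a := 6864) (len := 3231) h3 e3_3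
  have h5 : ∀ u < 12788, (fun u => chkE tab 3 u) u = true := ext_range (a := 10095) (len := 2693) h4 e3_4
  have h6 : ∀ u < 15514, (fun u => chkE tab 3 u) u = true := ext_range (a := 12788) (len := 2726) h5 e3_5
  have h7 : ∀ u < 18287, (fun u => chkE tab 3 u) u = true := ext_range (a := 15514) (len := 2773) h6 e3_6
  have h8 : ∀ u < 20590, (fun u => chkE tab 3 u) u = true := ext_range (a := 18287) (len := 2303) h7 e3_7
  exact h8

theorem hE4 : ∀ u < 20590, chkE tab 4 u = true := by
  have h0 : ∀ u < 0, (fun u => chkE tab 4 u) u = true := range_zero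
  have h1 : ∀ u < 2216, (fun u => chkE tab 4 u) u = true := ext_range (a := 0) (len := 2216) h0 e4_0
  have h2 : ∀ u < 4459, (fun u => chkE tab 4 u) u = true := ext_range (a := 2216) (len := 2243) h1 e4_1
  have h3 : ∀ u < 6816, (fun u => chkE tab 4 u) u = true := ext_range (a := 4459) (len := 2357) h2 e4_2
  have h4 : ∀ u < 10095, (fun u => chkE tab 4 u) u = true := ext_range (a := 6816) (len := 3279) h3 e4_3
  have h5 : ∀ u < 12750, (fun u => chkE tab 4 u) u = true := ext_range (a := 10095) (len := 2655) h4 e4_4
  have h6 : ∀ u < 15170, (fun u => chkE tab 4 u) u = true := ext_range (a := 12750) (len := 2420) h5 e4_5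
  have h7 : ∀ u < 18420, (fun u => chkE tab 4 u) u = true := ext_range (a := 15170) (len := 3250) h6 e4_6
  have h8 : ∀ u < 20590, (fun u => chkE tab 4 u) u = true := ext_range (a := 18420) (len := 2170) h7 e4_7
  exact h8

theorem hE5 : ∀ u < 20590, chkE tab 5 u = true := by
  have h0 : ∀ u < 0, (fun u => chkE tab 5 u) u = true := range_zero
  have h1 : ∀ u < 2317, (fun u => chkE tab 5 u) u = true := ext_range (a := 0) (len := 2317) h0 e5_0
  have h2 : ∀ u < 4465, (fun u => chkE tab 5 u) u = true := ext_range (a := 2317) (len := 2148) h1 e5_1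
  have h3 : ∀ u < 6647, (fun u => chkE tab 5 u) u = true := ext_range (a := 4465) (len := 2182) h2 e5_2
  have h4 : ∀ u < 9616, (fun u => chkE tab 5 u) u = true := ext_range (a := 6647) (len := 2969) h3 e5_3
  have h5 : ∀ u < 12325, (fun u => chkE tab 5 u) u = true := ext_range (a := 9616) (len := 2709) h4 e5_4
  have h6 : ∀ u < 14692, (fun u => chkE tab 5 u) u = true := ext_range (a := 12325) (len := 2367) h5 e5_5
  have h7 : ∀ u < 17109, (fun u => chkE tab 5 u) u = true := ext_range (a := 14692) (len := 2417) h6 e5_6
  have h8 : ∀ u < 20347, (fun u => chkE tab 5 u) u = true := ext_range (a := 17109) (len := 3238) h7 e5_7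
  have h9 : ∀ u < 20590, (fun u => chkE tab 5 u) u = true := ext_range (a := 20347) (len := 243) h8 e5_8
  exact h9

theorem hE6 : ∀ u < 20590, chkE tab 6 u = true := by
  have h0 : ∀ u < 0, (fun u => chkE tab 6 u) u = true := range_zero
  have h1 : ∀ u < 2451, (fun u => chkE tab 6 u) u = true := ext_range (a := 0) (len := 2451) h0 e6_0
  have h2 : ∀ u < 4678, (fun u => chkE tab 6 u) u = true := ext_range (a := 2451) (len := 2227) h1 e6_1
  have h3 : ∀ u < 6804, (fun u => chkE tab 6 u) u = true := ext_range (a := 4678) (len := 2126) h2 e6_2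
  have h4 : ∀ u < 9894, (fun u => chkE tab 6 u) u = true := ext_range (a := 6804) (len := 3090) h3 e6_3
  have h5 : ∀ u < 12480, (fun u => chkE tab 6 u) u = true := ext_range (a := 9894) (len := 2586) h4 e6_4
  have h6 : ∀ u < 15096, (fun u => chkE tab 6 u) u = true := ext_range (a := 12480) (len := 2616) h5 e6_5
  have h7 : ∀ u < 17770, (fun u => chkE tab 6 u) u = true := ext_range (a := 15096) (len := 2674) h6 e6_6
  have h8 : ∀ u < 20590, (fun u => chkE tab 6 u) u = true := ext_range (a := 17770) (len := 2820) h7 e6_7
  exact h8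

theorem hE7 : ∀ u < 20590, chkE tab 7 u = true := by
  have h0 : ∀ u < 0, (fun u => chkE tab 7 u) u = true := range_zero
  have h1 : ∀ u < 2707, (fun u => chkE tab 7 u) u = true := ext_range (a := 0) (len := 2707) h0 e7_0
  have h2 : ∀ u < 5464, (fun u => chkE tab 7 u) u = true := ext_range (a := 2707) (len := 2757) h1 e7_1
  have h3 : ∀ u < 8686, (fun u => chkE tab 7 u) u = true := ext_range (a := 5464) (len := 3222) h2 e7_2
  have h4 : ∀ u < 12161, (fun u => chkE tab 7 u) u = true := ext_range (a := 8686) (len := 3475) h3 e7_3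
  have h5 : ∀ u < 15447, (fun u => chkE tab 7 u) u = true := ext_range (a := 12161) (len := 3286) h4 e7_4
  have h6 : ∀ u < 17987, (fun u => chkE tab 7 u) u = true := ext_range (a := 15447) (len := 2540) h5 e7_5
  have h7 : ∀ u < 20590, (fun u => chkE tab 7 u) u = true := ext_range (a := 17987) (len := 2603) h6 e7_6
  exact h7

theorem hE8 : ∀ u < 20590, chkE tab 8 u = true := by
  have h0 : ∀ u < 0, (fun u => chkE tab 8 u) u = true := range_zero
  have h1 : ∀ u < 2684, (fun u => chkE tab 8 u) u = true := ext_range (a := 0) (len := 2684) h0 e8_0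
  have h2 : ∀ u < 6481, (fun u => chkE tab 8 u) u = true := ext_range (a := 2684) (len := 3797) h1 e8_1
  have h3 : ∀ u < 10913, (fun u => chkE tab 8 u) u = true := ext_range (a := 6481) (len := 4432) h2 e8_2
  have h4 : ∀ u < 14153, (fun u => chkE tab 8 u) u = true := ext_range (a := 10913) (len := 3240) h3 e8_3
  have h5 : ∀ u < 16795, (fun u => chkE tab 8 u) u = true := ext_range (a := 14153) (len := 2642) h4 e8_4
  have h6 : ∀ u < 19242, (fun u => chkE tab 8 u) u = true := ext_range (a := 16795) (len := 2447) h5 e8_5
  have h7 : ∀ u < 20590, (fun u => chkE tab 8 u) u = true := ext_range (a := 19242) (len := 1348) h6 e8_6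
  exact h7

theorem hL : ∀ u < 20590, chkL tab u = true := by
  have h0 : ∀ u < 0, (fun u => chkL tab u) u = true := range_zero
  have h1 : ∀ u < 3724, (fun u => chkL tab u) u = true := ext_range (a := 0) (len := 3724) h0 l_0
  have h2 : ∀ u < 5879, (fun u => chkL tab u) u = true := ext_range (a := 3724) (len := 2155) h1 l_1
  have h3 : ∀ u < 8078, (fun u => chkL tab u) u = true := ext_range (a := 5879) (len := 2199) h2 l_2
  have h4 : ∀ u < 10978, (fun u => chkL tab u) u = true := ext_range (a := 8078) (len := 2900) h3 l_3
  have h5 : ∀ u < 20590, (fun u => chkL tab u) u = true := ext_range (a := 10978) (len := 9612) h4 l_4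
  exact h5

theorem hF : ∀ u < 14080, chkFin tab u = true := by
  have h0 : ∀ u < 0, (fun u => chkFin tab u) u = true := range_zero
  have h1 : ∀ u < 276, (fun u => chkFin tab u) u = true := ext_range (a := 0) (len := 276) h0 f_0
  have h2 : ∀ u < 552, (fun u => chkFin tab u) u = true := ext_range (a := 276) (len := 276) h1 f_1
  have h3 : ∀ u < 828, (fun u => chkFin tab u) u = true := ext_range (a := 552) (len := 276) h2 f_2
  have h4 : ∀ u < 1104, (fun u => chkFin tab u) u = true := ext_range (a := 828) (len := 276) h3 f_3
  have h5 : ∀ u < 1380, (fun u => chkFin tab u) u = true := ext_range (a := 1104) (len := 276) h4 f_4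
  have h6 : ∀ u < 1656, (fun u => chkFin tab u) u = true := ext_range (a := 1380) (len := 276) h5 f_5
  have h7 : ∀ u < 1932, (fun u => chkFin tab u) u = true := ext_range (a := 1656) (len := 276) h6 f_6
  have h8 : ∀ u < 2208, (fun u => chkFin tab u) u = true := ext_range (a := 1932) (len := 276) h7 f_7
  have h9 : ∀ u < 2484, (fun u => chkFin tab u) u = true := ext_range (a := 2208) (len := 276) h8 f_8
  have h10 : ∀ u < 2760, (fun u => chkFin tab u) u = true := ext_range (a := 2484) (len := 276) h9 f_9
  have h11 : ∀ u < 3036, (fun u => chkFin tab u) u = true := ext_range (a := 2760) (len := 276) h10 f_10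
  have h12 : ∀ u < 3312, (fun u => chkFin tab u) u = true := ext_range (a := 3036) (len := 276) h11 f_11
  have h13 : ∀ u < 3588, (fun u => chkFin tab u) u = true := ext_range (a := 3312) (len := 276) h12 f_12
  have h14 : ∀ u < 3864, (fun u => chkFin tab u) u = true := ext_range (a := 3588) (len := 276) h13 f_13
  have h15 : ∀ u < 4140, (fun u => chkFin tab u) u = true := ext_range (a := 3864) (len := 276) h14 f_14
  have h16 : ∀ u < 4416, (fun u => chkFin tab u) u = true := ext_range (a := 4140) (len := 276) h15 f_15
  have h17 : ∀ u < 4692, (fun u => chkFin tab u) u = true := ext_range (a := 4416) (len := 276) h16 f_16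
  have h18 : ∀ u < 4968, (fun u => chkFin tab u) u = true := ext_range (a := 4692) (len := 276) h17 f_17
  have h19 : ∀ u < 5244, (fun u => chkFin tab u) u = true := ext_range (a := 4968) (len := 276) h18 f_18
  have h20 : ∀ u < 5520, (fun u => chkFin tab u) u = true := ext_range (a := 5244) (len := 276) h19 f_19
  have h21 : ∀ u < 5796, (fun u => chkFin tab u) u = true := ext_range (a := 5520) (len := 276) h20 f_20
  have h22 : ∀ u < 6072, (fun u => chkFin tab u) u = true := ext_range (a := 5796) (len := 276) h21 f_21
  have h23 : ∀ u < 6348, (fun u => chkFin tab u) u = true := ext_range (a := 6072) (len := 276) h22 f_22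
  have h24 : ∀ u < 6624, (fun u => chkFin tab u) u = true := ext_range (a := 6348) (len := 276) h23 f_23
  have h25 : ∀ u < 6900, (fun u => chkFin tab u) u = true := ext_range (a := 6624) (len := 276) h24 f_24
  have h26 : ∀ u < 7176, (fun u => chkFin tab u) u = true := ext_range (a := 6900) (len := 276) h25 f_25
  have h27 : ∀ u < 7452, (fun u => chkFin tab u) u = true := ext_range (a := 7176) (len := 276) h26 f_26
  have h28 : ∀ u < 7728, (fun u => chkFin tab u) u = true := ext_range (a := 7452) (len := 276) h27 f_27
  have h29 : ∀ u < 8004, (fun u => chkFin tab u) u = true := ext_range (a := 7728) (len := 276) h28 f_28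
  have h30 : ∀ u < 8280, (fun u => chkFin tab u) u = true := ext_range (a := 8004) (len := 276) h29 f_29
  have h31 : ∀ u < 8556, (fun u => chkFin tab u) u = true := ext_range (a := 8280) (len := 276) h30 f_30
  have h32 : ∀ u < 8832, (fun u => chkFin tab u) u = true := ext_range (a := 8556) (len := 276) h31 f_31
  have h33 : ∀ u < 9108, (fun u => chkFin tab u) u = true := ext_range (a := 8832) (len := 276) h32 f_32
  have h34 : ∀ u < 9384, (fun u => chkFin tab u) u = true := ext_range (a := 9108) (len := 276) h33 f_33
  have h35 : ∀ u < 9660, (fun u => chkFin tab u) u = true := ext_range (a := 9384) (len := 276) h34 f_34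
  have h36 : ∀ u < 9936, (fun u => chkFin tab u) u = true := ext_range (a := 9660) (len := 276) h35 f_35
  have h37 : ∀ u < 10212, (fun u => chkFin tab u) u = true := ext_range (a := 9936) (len := 276) h36 f_36
  have h38 : ∀ u < 10488, (fun u => chkFin tab u) u = true := ext_range (a := 10212) (len := 276) h37 f_37
  have h39 : ∀ u < 10764, (fun u => chkFin tab u) u = true := ext_range (a := 10488) (len := 276) h38 f_38
  have h40 : ∀ u < 11040, (fun u => chkFin tab u) u = true := ext_range (a := 10764) (len := 276) h39 f_39
  have h41 : ∀ u < 11316, (fun u => chkFin tab u) u = true := ext_range (a := 11040) (len := 276) h40 f_40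
  have h42 : ∀ u < 11592, (fun u => chkFin tab u) u = true := ext_range (a := 11316) (len := 276) h41 f_41
  have h43 : ∀ u < 11868, (fun u => chkFin tab u) u = true := ext_range (a := 11592) (len := 276) h42 f_42
  have h44 : ∀ u < 12144, (fun u => chkFin tab u) u = true := ext_range (a := 11868) (len := 276) h43 f_43
  have h45 : ∀ u < 12420, (fun u => chkFin tab u) u = true := ext_range (a := 12144) (len := 276) h44 f_44
  have h46 : ∀ u < 12696, (fun u => chkFin tab u) u = true := ext_range (a := 12420) (len := 276) h45 f_45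
  have h47 : ∀ u < 12972, (fun u => chkFin tab u) u = true := ext_range (a := 12696) (len := 276) h46 f_46
  have h48 : ∀ u < 13248, (fun u => chkFin tab u) u = true := ext_range (a := 12972) (len := 276) h47 f_47
  have h49 : ∀ u < 13524, (fun u => chkFin tab u) u = true := ext_range (a := 13248) (len := 276) h48 f_48
  have h50 : ∀ u < 13800, (fun u => chkFin tab u) u = true := ext_range (a := 13524) (len := 276) h49 f_49
  have h51 : ∀ u < 14076, (fun u => chkFin tab u) u = true := ext_range (a := 13800) (len := 276) h50 f_50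
  have h52 : ∀ u < 14080, (fun u => chkFin tab u) u = true := ext_range (a := 14076) (len := 4) h51 f_51
  exact h52

theorem hC : ∀ u < 20590, chkCls tab u = true := by
  have h0 : ∀ u < 0, (fun u => chkCls tab u) u = true := range_zero
  have h1 : ∀ u < 2667, (fun u => chkCls tab u) u = true := ext_range (a := 0) (len := 2667) h0 c_0
  have h2 : ∀ u < 5334, (fun u => chkCls tab u) u = true := ext_range (a := 2667) (len := 2667) h1 c_1
  have h3 : ∀ u < 8001, (fun u => chkCls tab u) u = true := ext_range (a := 5334) (len := 2667) h2 c_2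
  have h4 : ∀ u < 10668, (fun u => chkCls tab u) u = true := ext_range (a := 8001) (len := 2667) h3 c_3
  have h5 : ∀ u < 13335, (fun u => chkCls tab u) u = true := ext_range (a := 10668) (len := 2667) h4 c_4
  have h6 : ∀ u < 16002, (fun u => chkCls tab u) u = true := ext_range (a := 13335) (len := 2667) h5 c_5
  have h7 : ∀ u < 18669, (fun u => chkCls tab u) u = true := ext_range (a := 16002) (len := 2667) h6 c_6
  have h8 : ∀ u < 20590, (fun u => chkCls tab u) u = true := ext_range (a := 18669) (len := 1921) h7 c_7
  exact h8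

theorem hM1 : ∀ u < 14080, chkM1 tab u = true := by
  have h0 : ∀ u < 0, (fun u => chkM1 tab u) u = true := range_zero
  have h1 : ∀ u < 708, (fun u => chkM1 tab u) u = true := ext_range (a := 0) (len := 708) h0 m1_0
  have h2 : ∀ u < 1416, (fun u => chkM1 tab u) u = true := ext_range (a := 708) (len := 708) h1 m1_1
  have h3 : ∀ u < 2124, (fun u => chkM1 tab u) u = true := ext_range (a := 1416) (len := 708) h2 m1_2
  have h4 : ∀ u < 2832, (fun u => chkM1 tab u) u = true := ext_range (a := 2124) (len := 708) h3 m1_3
  have h5 : ∀ u < 3540, (fun u => chkM1 tab u) u = true := ext_range (a := 2832) (len := 708) h4 m1_4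
  have h6 : ∀ u < 4248, (fun u => chkM1 tab u) u = true := ext_range (a := 3540) (len := 708) h5 m1_5
  have h7 : ∀ u < 4956, (fun u => chkM1 tab u) u = true := ext_range (a := 4248) (len := 708) h6 m1_6
  have h8 : ∀ u < 5664, (fun u => chkM1 tab u) u = true := ext_range (a := 4956) (len := 708) h7 m1_7
  have h9 : ∀ u < 6372, (fun u => chkM1 tab u) u = true := ext_range (a := 5664) (len := 708) h8 m1_8
  have h10 : ∀ u < 7080, (fun u => chkM1 tab u) u = true := ext_range (a := 6372) (len := 708) h9 m1_9
  have h11 : ∀ u < 7788, (fun u => chkM1 tab u) u = true := ext_range (a := 7080) (len := 708) h10 m1_10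
  have h12 : ∀ u < 8496, (fun u => chkM1 tab u) u = true := ext_range (a := 7788) (len := 708) h11 m1_11
  have h13 : ∀ u < 9204, (fun u => chkM1 tab u) u = true := ext_range (a := 8496) (len := 708) h12 m1_12
  have h14 : ∀ u < 9912, (fun u => chkM1 tab u) u = true := ext_range (a := 9204) (len := 708) h13 m1_13
  have h15 : ∀ u < 10620, (fun u => chkM1 tab u) u = true := ext_range (a := 9912) (len := 708) h14 m1_14
  have h16 : ∀ u < 11328, (fun u => chkM1 tab u) u = true := ext_range (a := 10620) (len := 708) h15 m1_15
  have h17 : ∀ u < 12036, (fun u => chkM1 tab u) u = true := ext_range (a := 11328) (len := 708) h16 m1_16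
  have h18 : ∀ u < 12744, (fun u => chkM1 tab u) u = true := ext_range (a := 12036) (len := 708) h17 m1_17
  have h19 : ∀ u < 13452, (fun u => chkM1 tab u) u = true := ext_range (a := 12744) (len := 708) h18 m1_18
  have h20 : ∀ u < 14080, (fun u => chkM1 tab u) u = true := ext_range (a := 13452) (len := 628) h19 m1_19
  exact h20

theorem hMA : ∀ u < 14080, chkAux tab aux u = true := by
  have h0 : ∀ u < 0, (fun u => chkAux tab aux u) u = true := range_zero
  have h1 : ∀ u < 690, (fun u => chkAux tab aux u) u = true := ext_range (a := 0) (len := 690) h0 ma_0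
  have h2 : ∀ u < 1380, (fun u => chkAux tab aux u) u = true := ext_range (a := 690) (len := 690) h1 ma_1
  have h3 : ∀ u < 2070, (fun u => chkAux tab aux u) u = true := ext_range (a := 1380) (len := 690) h2 ma_2
  have h4 : ∀ u < 2760, (fun u => chkAux tab aux u) u = true := ext_range (a := 2070) (len := 690) h3 ma_3
  have h5 : ∀ u < 3450, (fun u => chkAux tab aux u) u = true := ext_range (a := 2760) (len := 690) h4 ma_4
  have h6 : ∀ u < 4140, (fun u => chkAux tab aux u) u = true := ext_range (a := 3450) (len := 690) h5 ma_5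
  have h7 : ∀ u < 4830, (fun u => chkAux tab aux u) u = true := ext_range (a := 4140) (len := 690) h6 ma_6
  have h8 : ∀ u < 5520, (fun u => chkAux tab aux u) u = true := ext_range (a := 4830) (len := 690) h7 ma_7
  have h9 : ∀ u < 6210, (fun u => chkAux tab aux u) u = true := ext_range (a := 5520) (len := 690) h8 ma_8
  have h10 : ∀ u < 6900, (fun u => chkAux tab aux u) u = true := ext_range (a := 6210) (len := 690) h9 ma_9
  have h11 : ∀ u < 7590, (fun u => chkAux tab aux u) u = true := ext_range (a := 6900) (len := 690) h10 ma_10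
  have h12 : ∀ u < 8280, (fun u => chkAux tab aux u) u = true := ext_range (a := 7590) (len := 690) h11 ma_11
  have h13 : ∀ u < 8970, (fun u => chkAux tab aux u) u = true := ext_range (a := 8280) (len := 690) h12 ma_12
  have h14 : ∀ u < 9660, (fun u => chkAux tab aux u) u = true := ext_range (a := 8970) (len := 690) h13 ma_13
  have h15 : ∀ u < 10350, (fun u => chkAux tab aux u) u = true := ext_range (a := 9660) (len := 690) h14 ma_14
  have h16 : ∀ u < 11040, (fun u => chkAux tab aux u) u = true := ext_range (a := 10350) (len := 690) h15 ma_15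
  have h17 : ∀ u < 11730, (fun u => chkAux tab aux u) u = true := ext_range (a := 11040) (len := 690) h16 ma_16
  have h18 : ∀ u < 12420, (fun u => chkAux tab aux u) u = true := ext_range (a := 11730) (len := 690) h17 ma_17
  have h19 : ∀ u < 13110, (fun u => chkAux tab aux u) u = true := ext_range (a := 12420) (len := 690) h18 ma_18
  have h20 : ∀ u < 13800, (fun u => chkAux tab aux u) u = true := ext_range (a := 13110) (len := 690) h19 ma_19
  have h21 : ∀ u < 14080, (fun u => chkAux tab aux u) u = true := ext_range (a := 13800) (len := 280) h20 ma_20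
  exact h21

theorem hM2A : ∀ u < 14080, chkFix tab mwordsA u = true := by
  have h0 : ∀ u < 0, (fun u => chkFix tab mwordsA u) u = true := range_zero
  have h1 : ∀ u < 75, (fun u => chkFix tab mwordsA u) u = true := ext_range (a := 0) (len := 75) h0 m2_0
  have h2 : ∀ u < 150, (fun u => chkFix tab mwordsA u) u = true := ext_range (a := 75) (len := 75) h1 m2_1
  have h3 : ∀ u < 225, (fun u => chkFix tab mwordsA u) u = true := ext_range (a := 150) (len := 75) h2 m2_2
  have h4 : ∀ u < 300, (fun u => chkFix tab mwordsA u) u = true := ext_range (a := 225) (len := 75) h3 m2_3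
  have h5 : ∀ u < 375, (fun u => chkFix tab mwordsA u) u = true := ext_range (a := 300) (len := 75) h4 m2_4
  have h6 : ∀ u < 450, (fun u => chkFix tab mwordsA u) u = true := ext_range (a := 375) (len := 75) h5 m2_5
  have h7 : ∀ u < 525, (fun u => chkFix tab mwordsA u) u = true := ext_range (a := 450) (len := 75) h6 m2_6
  have h8 : ∀ u < 600, (fun u => chkFix tab mwordsA u) u = true := ext_range (a := 525) (len := 75) h7 m2_7
  have h9 : ∀ u < 675, (fun u => chkFix tab mwordsA u) u = true := ext_range (a := 600) (len := 75) h8 m2_8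
  have h10 : ∀ u < 750, (fun u => chkFix tab mwordsA u) u = true := ext_range (a := 675) (len := 75) h9 m2_9
  have h11 : ∀ u < 825, (fun u => chkFix tab mwordsA u) u = true := ext_range (a := 750) (len := 75) h10 m2_10
  have h12 : ∀ u < 900, (fun u => chkFix tab mwordsA u) u = true := ext_range (a := 825) (len := 75) h11 m2_11
  have h13 : ∀ u < 975, (fun u => chkFix tab mwordsA u) u = true := ext_range (a := 900) (len := 75) h12 m2_12
  have h14 : ∀ u < 1050, (fun u => chkFix tab mwordsA u) u = true := ext_range (a := 975) (len := 75) h13 m2_13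
  have h15 : ∀ u < 1125, (fun u => chkFix tab mwordsA u) u = true := ext_range (a := 1050) (len := 75) h14 m2_14
  have h16 : ∀ u < 1200, (fun u => chkFix tab mwordsA u) u = true := ext_range (a := 1125) (len := 75) h15 m2_15
  have h17 : ∀ u < 1275, (fun u => chkFix tab mwordsA u) u = true := ext_range (a := 1200) (len := 75) h16 m2_16
  have h18 : ∀ u < 1350, (fun u => chkFix tab mwordsA u) u = true := ext_range (a := 1275) (len := 75) h17 m2_17
  have h19 : ∀ u < 1425, (fun u => chkFix tab mwordsA u) u = true := ext_range (a := 1350) (len := 75) h18 m2_18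
  have h20 : ∀ u < 1500, (fun u => chkFix tab mwordsA u) u = true := ext_range (a := 1425) (len := 75) h19 m2_19
  have h21 : ∀ u < 1575, (fun u => chkFix tab mwordsA u) u = true := ext_range (a := 1500) (len := 75) h20 m2_20
  have h22 : ∀ u < 1650, (fun u => chkFix tab mwordsA u) u = true := ext_range (a := 1575) (len := 75) h21 m2_21
  have h23 : ∀ u < 1725, (fun u => chkFix tab mwordsA u) u = true := ext_range (a := 1650) (len := 75) h22 m2_22
  have h24 : ∀ u < 1800, (fun u => chkFix tab mwordsA u) u = true := ext_range (a := 1725) (len := 75) h23 m2_23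
  have h25 : ∀ u < 1875, (fun u => chkFix tab mwordsA u) u = true := ext_range (a := 1800) (len := 75) h24 m2_24
  have h26 : ∀ u < 1950, (fun u => chkFix tab mwordsA u) u = true := ext_range (a := 1875) (len := 75) h25 m2_25
  have h27 : ∀ u < 2025, (fun u => chkFix tab mwordsA u) u = true := ext_range (a := 1950) (len := 75) h26 m2_26
  have h28 : ∀ u < 2100, (fun u => chkFix tab mwordsA u) u = true := ext_range (a := 2025) (len := 75) h27 m2_27
  have h29 : ∀ u < 2175, (fun u => chkFix tab mwordsA u) u = true := ext_range (a := 2100) (len := 75) h28 m2_28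
  have h30 : ∀ u < 2250, (fun u => chkFix tab mwordsA u) u = true := ext_range (a := 2175) (len := 75) h29 m2_29
  have h31 : ∀ u < 2325, (fun u => chkFix tab mwordsA u) u = true := ext_range (a := 2250) (len := 75) h30 m2_30
  have h32 : ∀ u < 2400, (fun u => chkFix tab mwordsA u) u = true := ext_range (a := 2325) (len := 75) h31 m2_31
  have h33 : ∀ u < 2475, (fun u => chkFix tab mwordsA u) u = true := ext_range (a := 2400) (len := 75) h32 m2_32
  have h34 : ∀ u < 2550, (fun u => chkFix tab mwordsA u) u = true := ext_range (a := 2475) (len := 75) h33 m2_33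
  have h35 : ∀ u < 2625, (fun u => chkFix tab mwordsA u) u = true := ext_range (a := 2550) (len := 75) h34 m2_34
  have h36 : ∀ u < 2700, (fun u => chkFix tab mwordsA u) u = true := ext_range (a := 2625) (len := 75) h35 m2_35
  have h37 : ∀ u < 2775, (fun u => chkFix tab mwordsA u) u = true := ext_range (a := 2700) (len := 75) h36 m2_36
  have h38 : ∀ u < 2850, (fun u => chkFix tab mwordsA u) u = true := ext_range (a := 2775) (len := 75) h37 m2_37
  have h39 : ∀ u < 2925, (fun u => chkFix tab mwordsA u) u = true := ext_range (a := 2850) (len := 75) h38 m2_38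
  have h40 : ∀ u < 3000, (fun u => chkFix tab mwordsA u) u = true := ext_range (a := 2925) (len := 75) h39 m2_39
  have h41 : ∀ u < 3075, (fun u => chkFix tab mwordsA u) u = true := ext_range (a := 3000) (len := 75) h40 m2_40
  have h42 : ∀ u < 3150, (fun u => chkFix tab mwordsA u) u = true := ext_range (a := 3075) (len := 75) h41 m2_41
  have h43 : ∀ u < 3225, (fun u => chkFix tab mwordsA u) u = true := ext_range (a := 3150) (len := 75) h42 m2_42
  have h44 : ∀ u < 3300, (fun u => chkFix tab mwordsA u) u = true := ext_range (a := 3225) (len := 75) h43 m2_43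
  have h45 : ∀ u < 3375, (fun u => chkFix tab mwordsA u) u = true := ext_range (a := 3300) (len := 75) h44 m2_44
  have h46 : ∀ u < 3450, (fun u => chkFix tab mwordsA u) u = true := ext_range (a := 3375) (len := 75) h45 m2_45
  have h47 : ∀ u < 3525, (fun u => chkFix tab mwordsA u) u = true := ext_range (a := 3450) (len := 75) h46 m2_46
  have h48 : ∀ u < 3600, (fun u => chkFix tab mwordsA u) u = true := ext_range (a := 3525) (len := 75) h47 m2_47
  have h49 : ∀ u < 3675, (fun u => chkFix tab mwordsA u) u = true := ext_range (a := 3600) (len := 75) h48 m2_48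
  have h50 : ∀ u < 3750, (fun u => chkFix tab mwordsA u) u = true := ext_range (a := 3675) (len := 75) h49 m2_49
  have h51 : ∀ u < 3825, (fun u => chkFix tab mwordsA u) u = true := ext_range (a := 3750) (len := 75) h50 m2_50
  have h52 : ∀ u < 3900, (fun u => chkFix tab mwordsA u) u = true := ext_range (a := 3825) (len := 75) h51 m2_51
  have h53 : ∀ u < 3975, (fun u => chkFix tab mwordsA u) u = true := ext_range (a := 3900) (len := 75) h52 m2_52
  have h54 : ∀ u < 4050, (fun u => chkFix tab mwordsA u) u = true := ext_range (a := 3975) (len := 75) h53 m2_53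
  have h55 : ∀ u < 4125, (fun u => chkFix tab mwordsA u) u = true := ext_range (a := 4050) (len := 75) h54 m2_54
  have h56 : ∀ u < 4200, (fun u => chkFix tab mwordsA u) u = true := ext_range (a := 4125) (len := 75) h55 m2_55
  have h57 : ∀ u < 4275, (fun u => chkFix tab mwordsA u) u = true := ext_range (a := 4200) (len := 75) h56 m2_56
  have h58 : ∀ u < 4350, (fun u => chkFix tab mwordsA u) u = true := ext_range (a := 4275) (len := 75) h57 m2_57
  have h59 : ∀ u < 4425, (fun u => chkFix tab mwordsA u) u = true := ext_range (a := 4350) (len := 75) h58 m2_58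
  have h60 : ∀ u < 4500, (fun u => chkFix tab mwordsA u) u = true := ext_range (a := 4425) (len := 75) h59 m2_59
  have h61 : ∀ u < 4575, (fun u => chkFix tab mwordsA u) u = true := ext_range (a := 4500) (len := 75) h60 m2_60
  have h62 : ∀ u < 4650, (fun u => chkFix tab mwordsA u) u = true := ext_range (a := 4575) (len := 75) h61 m2_61
  have h63 : ∀ u < 4725, (fun u => chkFix tab mwordsA u) u = true := ext_range (a := 4650) (len := 75) h62 m2_62
  have h64 : ∀ u < 4800, (fun u => chkFix tab mwordsA u) u = true := ext_range (a := 4725) (len := 75) h63 m2_63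
  have h65 : ∀ u < 4875, (fun u => chkFix tab mwordsA u) u = true := ext_range (a := 4800) (len := 75) h64 m2_64
  have h66 : ∀ u < 4950, (fun u => chkFix tab mwordsA u) u = true := ext_range (a := 4875) (len := 75) h65 m2_65
  have h67 : ∀ u < 5025, (fun u => chkFix tab mwordsA u) u = true := ext_range (a := 4950) (len := 75) h66 m2_66
  have h68 : ∀ u < 5100, (fun u => chkFix tab mwordsA u) u = true := ext_range (a := 5025) (len := 75) h67 m2_67
  have h69 : ∀ u < 5175, (fun u => chkFix tab mwordsA u) u = true := ext_range (a := 5100) (len := 75) h68 m2_68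
  have h70 : ∀ u < 5250, (fun u => chkFix tab mwordsA u) u = true := ext_range (a := 5175) (len := 75) h69 m2_69
  have h71 : ∀ u < 5325, (fun u => chkFix tab mwordsA u) u = true := ext_range (a := 5250) (len := 75) h70 m2_70
  have h72 : ∀ u < 5400, (fun u => chkFix tab mwordsA u) u = true := ext_range (a := 5325) (len := 75) h71 m2_71
  have h73 : ∀ u < 5475, (fun u => chkFix tab mwordsA u) u = true := ext_range (a := 5400) (len := 75) h72 m2_72
  have h74 : ∀ u < 5550, (fun u => chkFix tab mwordsA u) u = true := ext_range (a := 5475) (len := 75) h73 m2_73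
  have h75 : ∀ u < 5625, (fun u => chkFix tab mwordsA u) u = true := ext_range (a := 5550) (len := 75) h74 m2_74
  have h76 : ∀ u < 5700, (fun u => chkFix tab mwordsA u) u = true := ext_range (a := 5625) (len := 75) h75 m2_75
  have h77 : ∀ u < 5775, (fun u => chkFix tab mwordsA u) u = true := ext_range (a := 5700) (len := 75) h76 m2_76
  have h78 : ∀ u < 5850, (fun u => chkFix tab mwordsA u) u = true := ext_range (a := 5775) (len := 75) h77 m2_77
  have h79 : ∀ u < 5925, (fun u => chkFix tab mwordsA u) u = true := ext_range (a := 5850) (len := 75) h78 m2_78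
  have h80 : ∀ u < 6000, (fun u => chkFix tab mwordsA u) u = true := ext_range (a := 5925) (len := 75) h79 m2_79
  have h81 : ∀ u < 6075, (fun u => chkFix tab mwordsA u) u = true := ext_range (a := 6000) (len := 75) h80 m2_80
  have h82 : ∀ u < 6150, (fun u => chkFix tab mwordsA u) u = true := ext_range (a := 6075) (len := 75) h81 m2_81
  have h83 : ∀ u < 6225, (fun u => chkFix tab mwordsA u) u = true := ext_range (a := 6150) (len := 75) h82 m2_82
  have h84 : ∀ u < 6300, (fun u => chkFix tab mwordsA u) u = true := ext_range (a := 6225) (len := 75) h83 m2_83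
  have h85 : ∀ u < 6375, (fun u => chkFix tab mwordsA u) u = true := ext_range (a := 6300) (len := 75) h84 m2_84
  have h86 : ∀ u < 6450, (fun u => chkFix tab mwordsA u) u = true := ext_range (a := 6375) (len := 75) h85 m2_85
  have h87 : ∀ u < 6525, (fun u => chkFix tab mwordsA u) u = true := ext_range (a := 6450) (len := 75) h86 m2_86
  have h88 : ∀ u < 6600, (fun u => chkFix tab mwordsA u) u = true := ext_range (a := 6525) (len := 75) h87 m2_87
  have h89 : ∀ u < 6675, (fun u => chkFix tab mwordsA u) u = true := ext_range (a := 6600) (len := 75) h88 m2_88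
  have h90 : ∀ u < 6750, (fun u => chkFix tab mwordsA u) u = true := ext_range (a := 6675) (len := 75) h89 m2_89
  have h91 : ∀ u < 6825, (fun u => chkFix tab mwordsA u) u = true := ext_range (a := 6750) (len := 75) h90 m2_90
  have h92 : ∀ u < 6900, (fun u => chkFix tab mwordsA u) u = true := ext_range (a := 6825) (len := 75) h91 m2_91
  have h93 : ∀ u < 6975, (fun u => chkFix tab mwordsA u) u = true := ext_range (a := 6900) (len := 75) h92 m2_92
  have h94 : ∀ u < 7050, (fun u => chkFix tab mwordsA u) u = true := ext_range (a := 6975) (len := 75) h93 m2_93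
  have h95 : ∀ u < 7125, (fun u => chkFix tab mwordsA u) u = true := ext_range (a := 7050) (len := 75) h94 m2_94
  have h96 : ∀ u < 7200, (fun u => chkFix tab mwordsA u) u = true := ext_range (a := 7125) (len := 75) h95 m2_95
  have h97 : ∀ u < 7275, (fun u => chkFix tab mwordsA u) u = true := ext_range (a := 7200) (len := 75) h96 m2_96
  have h98 : ∀ u < 7350, (fun u => chkFix tab mwordsA u) u = true := ext_range (a := 7275) (len := 75) h97 m2_97
  have h99 : ∀ u < 7425, (fun u => chkFix tab mwordsA u) u = true := ext_range (a := 7350) (len := 75) h98 m2_98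
  have h100 : ∀ u < 7500, (fun u => chkFix tab mwordsA u) u = true := ext_range (a := 7425) (len := 75) h99 m2_99
  have h101 : ∀ u < 7575, (fun u => chkFix tab mwordsA u) u = true := ext_range (a := 7500) (len := 75) h100 m2_100
  have h102 : ∀ u < 7650, (fun u => chkFix tab mwordsA u) u = true := ext_range (a := 7575) (len := 75) h101 m2_101
  have h103 : ∀ u < 7725, (fun u => chkFix tab mwordsA u) u = true := ext_range (a := 7650) (len := 75) h102 m2_102
  have h104 : ∀ u < 7800, (fun u => chkFix tab mwordsA u) u = true := ext_range (a := 7725) (len := 75) h103 m2_103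
  have h105 : ∀ u < 7875, (fun u => chkFix tab mwordsA u) u = true := ext_range (a := 7800) (len := 75) h104 m2_104
  have h106 : ∀ u < 7950, (fun u => chkFix tab mwordsA u) u = true := ext_range (a := 7875) (len := 75) h105 m2_105
  have h107 : ∀ u < 8025, (fun u => chkFix tab mwordsA u) u = true := ext_range (a := 7950) (len := 75) h106 m2_106
  have h108 : ∀ u < 8100, (fun u => chkFix tab mwordsA u) u = true := ext_range (a := 8025) (len := 75) h107 m2_107
  have h109 : ∀ u < 8175, (fun u => chkFix tab mwordsA u) u = true := ext_range (a := 8100) (len := 75) h108 m2_108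
  have h110 : ∀ u < 8250, (fun u => chkFix tab mwordsA u) u = true := ext_range (a := 8175) (len := 75) h109 m2_109
  have h111 : ∀ u < 8325, (fun u => chkFix tab mwordsA u) u = true := ext_range (a := 8250) (len := 75) h110 m2_110
  have h112 : ∀ u < 8400, (fun u => chkFix tab mwordsA u) u = true := ext_range (a := 8325) (len := 75) h111 m2_111
  have h113 : ∀ u < 8475, (fun u => chkFix tab mwordsA u) u = true := ext_range (a := 8400) (len := 75) h112 m2_112
  have h114 : ∀ u < 8550, (fun u => chkFix tab mwordsA u) u = true := ext_range (a := 8475) (len := 75) h113 m2_113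
  have h115 : ∀ u < 8625, (fun u => chkFix tab mwordsA u) u = true := ext_range (a := 8550) (len := 75) h114 m2_114
  have h116 : ∀ u < 8700, (fun u => chkFix tab mwordsA u) u = true := ext_range (a := 8625) (len := 75) h115 m2_115
  have h117 : ∀ u < 8775, (fun u => chkFix tab mwordsA u) u = true := ext_range (a := 8700) (len := 75) h116 m2_116
  have h118 : ∀ u < 8850, (fun u => chkFix tab mwordsA u) u = true := ext_range (a := 8775) (len := 75) h117 m2_117
  have h119 : ∀ u < 8925, (fun u => chkFix tab mwordsA u) u = true := ext_range (a := 8850) (len := 75) h118 m2_118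
  have h120 : ∀ u < 9000, (fun u => chkFix tab mwordsA u) u = true := ext_range (a := 8925) (len := 75) h119 m2_119
  have h121 : ∀ u < 9075, (fun u => chkFix tab mwordsA u) u = true := ext_range (a := 9000) (len := 75) h120 m2_120
  have h122 : ∀ u < 9150, (fun u => chkFix tab mwordsA u) u = true := ext_range (a := 9075) (len := 75) h121 m2_121
  have h123 : ∀ u < 9225, (fun u => chkFix tab mwordsA u) u = true := ext_range (a := 9150) (len := 75) h122 m2_122
  have h124 : ∀ u < 9300, (fun u => chkFix tab mwordsA u) u = true := ext_range (a := 9225) (len := 75) h123 m2_123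
  have h125 : ∀ u < 9375, (fun u => chkFix tab mwordsA u) u = true := ext_range (a := 9300) (len := 75) h124 m2_124
  have h126 : ∀ u < 9450, (fun u => chkFix tab mwordsA u) u = true := ext_range (a := 9375) (len := 75) h125 m2_125
  have h127 : ∀ u < 9525, (fun u => chkFix tab mwordsA u) u = true := ext_range (a := 9450) (len := 75) h126 m2_126
  have h128 : ∀ u < 9600, (fun u => chkFix tab mwordsA u) u = true := ext_range (a := 9525) (len := 75) h127 m2_127
  have h129 : ∀ u < 9675, (fun u => chkFix tab mwordsA u) u = true := ext_range (a := 9600) (len := 75) h128 m2_128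
  have h130 : ∀ u < 9750, (fun u => chkFix tab mwordsA u) u = true := ext_range (a := 9675) (len := 75) h129 m2_129
  have h131 : ∀ u < 9825, (fun u => chkFix tab mwordsA u) u = true := ext_range (a := 9750) (len := 75) h130 m2_130
  have h132 : ∀ u < 9900, (fun u => chkFix tab mwordsA u) u = true := ext_range (a := 9825) (len := 75) h131 m2_131
  have h133 : ∀ u < 9975, (fun u => chkFix tab mwordsA u) u = true := ext_range (a := 9900) (len := 75) h132 m2_132
  have h134 : ∀ u < 10050, (fun u => chkFix tab mwordsA u) u = true := ext_range (a := 9975) (len := 75) h133 m2_133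
  have h135 : ∀ u < 10125, (fun u => chkFix tab mwordsA u) u = true := ext_range (a := 10050) (len := 75) h134 m2_134
  have h136 : ∀ u < 10200, (fun u => chkFix tab mwordsA u) u = true := ext_range (a := 10125) (len := 75) h135 m2_135
  have h137 : ∀ u < 10275, (fun u => chkFix tab mwordsA u) u = true := ext_range (a := 10200) (len := 75) h136 m2_136
  have h138 : ∀ u < 10350, (fun u => chkFix tab mwordsA u) u = true := ext_range (a := 10275) (len := 75) h137 m2_137
  have h139 : ∀ u < 10425, (fun u => chkFix tab mwordsA u) u = true := ext_range (a := 10350) (len := 75) h138 m2_138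
  have h140 : ∀ u < 10500, (fun u => chkFix tab mwordsA u) u = true := ext_range (a := 10425) (len := 75) h139 m2_139
  have h141 : ∀ u < 10575, (fun u => chkFix tab mwordsA u) u = true := ext_range (a := 10500) (len := 75) h140 m2_140
  have h142 : ∀ u < 10650, (fun u => chkFix tab mwordsA u) u = true := ext_range (a := 10575) (len := 75) h141 m2_141
  have h143 : ∀ u < 10725, (fun u => chkFix tab mwordsA u) u = true := ext_range (a := 10650) (len := 75) h142 m2_142
  have h144 : ∀ u < 10800, (fun u => chkFix tab mwordsA u) u = true := ext_range (a := 10725) (len := 75) h143 m2_143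
  have h145 : ∀ u < 10875, (fun u => chkFix tab mwordsA u) u = true := ext_range (a := 10800) (len := 75) h144 m2_144
  have h146 : ∀ u < 10950, (fun u => chkFix tab mwordsA u) u = true := ext_range (a := 10875) (len := 75) h145 m2_145
  have h147 : ∀ u < 11025, (fun u => chkFix tab mwordsA u) u = true := ext_range (a := 10950) (len := 75) h146 m2_146
  have h148 : ∀ u < 11100, (fun u => chkFix tab mwordsA u) u = true := ext_range (a := 11025) (len := 75) h147 m2_147
  have h149 : ∀ u < 11175, (fun u => chkFix tab mwordsA u) u = true := ext_range (a := 11100) (len := 75) h148 m2_148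
  have h150 : ∀ u < 11250, (fun u => chkFix tab mwordsA u) u = true := ext_range (a := 11175) (len := 75) h149 m2_149
  have h151 : ∀ u < 11325, (fun u => chkFix tab mwordsA u) u = true := ext_range (a := 11250) (len := 75) h150 m2_150
  have h152 : ∀ u < 11400, (fun u => chkFix tab mwordsA u) u = true := ext_range (a := 11325) (len := 75) h151 m2_151
  have h153 : ∀ u < 11475, (fun u => chkFix tab mwordsA u) u = true := ext_range (a := 11400) (len := 75) h152 m2_152
  have h154 : ∀ u < 11550, (fun u => chkFix tab mwordsA u) u = true := ext_range (a := 11475) (len := 75) h153 m2_153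
  have h155 : ∀ u < 11625, (fun u => chkFix tab mwordsA u) u = true := ext_range (a := 11550) (len := 75) h154 m2_154
  have h156 : ∀ u < 11700, (fun u => chkFix tab mwordsA u) u = true := ext_range (a := 11625) (len := 75) h155 m2_155
  have h157 : ∀ u < 11775, (fun u => chkFix tab mwordsA u) u = true := ext_range (a := 11700) (len := 75) h156 m2_156
  have h158 : ∀ u < 11850, (fun u => chkFix tab mwordsA u) u = true := ext_range (a := 11775) (len := 75) h157 m2_157
  have h159 : ∀ u < 11925, (fun u => chkFix tab mwordsA u) u = true := ext_range (a := 11850) (len := 75) h158 m2_158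
  have h160 : ∀ u < 12000, (fun u => chkFix tab mwordsA u) u = true := ext_range (a := 11925) (len := 75) h159 m2_159
  have h161 : ∀ u < 12075, (fun u => chkFix tab mwordsA u) u = true := ext_range (a := 12000) (len := 75) h160 m2_160
  have h162 : ∀ u < 12150, (fun u => chkFix tab mwordsA u) u = true := ext_range (a := 12075) (len := 75) h161 m2_161
  have h163 : ∀ u < 12225, (fun u => chkFix tab mwordsA u) u = true := ext_range (a := 12150) (len := 75) h162 m2_162
  have h164 : ∀ u < 12300, (fun u => chkFix tab mwordsA u) u = true := ext_range (a := 12225) (len := 75) h163 m2_163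
  have h165 : ∀ u < 12375, (fun u => chkFix tab mwordsA u) u = true := ext_range (a := 12300) (len := 75) h164 m2_164
  have h166 : ∀ u < 12450, (fun u => chkFix tab mwordsA u) u = true := ext_range (a := 12375) (len := 75) h165 m2_165
  have h167 : ∀ u < 12525, (fun u => chkFix tab mwordsA u) u = true := ext_range (a := 12450) (len := 75) h166 m2_166
  have h168 : ∀ u < 12600, (fun u => chkFix tab mwordsA u) u = true := ext_range (a := 12525) (len := 75) h167 m2_167
  have h169 : ∀ u < 12675, (fun u => chkFix tab mwordsA u) u = true := ext_range (a := 12600) (len := 75) h168 m2_168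
  have h170 : ∀ u < 12750, (fun u => chkFix tab mwordsA u) u = true := ext_range (a := 12675) (len := 75) h169 m2_169
  have h171 : ∀ u < 12825, (fun u => chkFix tab mwordsA u) u = true := ext_range (a := 12750) (len := 75) h170 m2_170
  have h172 : ∀ u < 12900, (fun u => chkFix tab mwordsA u) u = true := ext_range (a := 12825) (len := 75) h171 m2_171
  have h173 : ∀ u < 12975, (fun u => chkFix tab mwordsA u) u = true := ext_range (a := 12900) (len := 75) h172 m2_172
  have h174 : ∀ u < 13050, (fun u => chkFix tab mwordsA u) u = true := ext_range (a := 12975) (len := 75) h173 m2_173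
  have h175 : ∀ u < 13125, (fun u => chkFix tab mwordsA u) u = true := ext_range (a := 13050) (len := 75) h174 m2_174
  have h176 : ∀ u < 13200, (fun u => chkFix tab mwordsA u) u = true := ext_range (a := 13125) (len := 75) h175 m2_175
  have h177 : ∀ u < 13275, (fun u => chkFix tab mwordsA u) u = true := ext_range (a := 13200) (len := 75) h176 m2_176
  have h178 : ∀ u < 13350, (fun u => chkFix tab mwordsA u) u = true := ext_range (a := 13275) (len := 75) h177 m2_177
  have h179 : ∀ u < 13425, (fun u => chkFix tab mwordsA u) u = true := ext_range (a := 13350) (len := 75) h178 m2_178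
  have h180 : ∀ u < 13500, (fun u => chkFix tab mwordsA u) u = true := ext_range (a := 13425) (len := 75) h179 m2_179
  have h181 : ∀ u < 13575, (fun u => chkFix tab mwordsA u) u = true := ext_range (a := 13500) (len := 75) h180 m2_180
  have h182 : ∀ u < 13650, (fun u => chkFix tab mwordsA u) u = true := ext_range (a := 13575) (len := 75) h181 m2_181
  have h183 : ∀ u < 13725, (fun u => chkFix tab mwordsA u) u = true := ext_range (a := 13650) (len := 75) h182 m2_182
  have h184 : ∀ u < 13800, (fun u => chkFix tab mwordsA u) u = true := ext_range (a := 13725) (len := 75) h183 m2_183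
  have h185 : ∀ u < 13875, (fun u => chkFix tab mwordsA u) u = true := ext_range (a := 13800) (len := 75) h184 m2_184
  have h186 : ∀ u < 13950, (fun u => chkFix tab mwordsA u) u = true := ext_range (a := 13875) (len := 75) h185 m2_185
  have h187 : ∀ u < 14025, (fun u => chkFix tab mwordsA u) u = true := ext_range (a := 13950) (len := 75) h186 m2_186
  have h188 : ∀ u < 14080, (fun u => chkFix tab mwordsA u) u = true := ext_range (a := 14025) (len := 55) h187 m2_187
  exact h188

theorem hE : ∀ c < 9, ∀ u < 20590, chkE tab c u = true := by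
  intro c hc
  interval_cases c
  · exact hE0
  · exact hE1
  · exact hE2
  · exact hE3
  · exact hE4
  · exact hE5
  · exact hE6
  · exact hE7
  · exact hE8

end Cfsg.Agent.Helper9.TCData.Fi23C1
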