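import Mathlib
import Cfsg.Agent.Lib.Helper9.TC2Cox
import Cfsg.Agent.Lib.Helper9.TC2Aux
import Cfsg.Agent.Lib.Helper9.TC2Chain
import Cfsg.Agent.Lib.Helper9.TCData.Fi23C1.All

set_option autoImplicit false
set_option maxRecDepth 1000000

namespace Cfsg.Agent.Helper9.TCData.Fi23C1

open Cfsg.Agent.Helper9.TC2 Cfsg.Spor 

/-- The generators. -/
abbrev Gen := Fin 9

/-- The graph. -/
def edges : List (Gen × ℕ × Gen) := [((0 : Fin 9), 3, (1 : Fin 9)), ((1 : Fin 9), 3, (2 : Fin 9)), ((2 : Fin 9), 3, (3 : Fin 9)), ((3 : Fin 9), 3, (4 : Fin 9)), ((3 : Fin 9), 3, (7 : Fin 9)), ((4 : Fin 9), 3, (5 : Fin 9)), ((5 : Fin 9), 3, (6 : Fin 9)), ((7 : Fin 9), 3, (8 : Fin 9))]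

/-- The further relators. -/
def extra : List (FreeGroup Gen) := [
  FreeGroup.mk [((3 : Fin 9), true), ((2 : Fin 9), true), ((1 : Fin 9), true), ((3 : Fin 9), true), ((4 : Fin 9), true), ((5 : Fin 9), true), ((3 : Fin 9), true), ((7 : Fin 9), true), ((8 : Fin 9), true), ((3 : Fin 9), true), ((2 : Fin 9), true), ((1 : Fin 9), true), ((3 : Fin 9), true), ((4 : Fin 9), true), ((5 : Fin 9), true), ((3 : Fin 9), true), ((7 : Fin 9), true), ((8 : Fin 9), true), ((3 : Fin 9), true), ((2 : Fin 9), true), ((1 : Fin 9), true), ((3 : Fin 9), true), ((4 : Fin 9), true), ((5 : Fin 9), true), ((3 : Fin 9), true), ((7 : Fin 9), true), ((8 : Fin 9), true), ((3 : Fin 9), true), ((2 : Fin 9), true), ((1 : Fin 9), true), ((3 : Fin 9), true), ((4 : Fin 9), true), ((5 : Fin 9), true), ((3 : Fin 9), true), ((7 : Fin 9), true), ((8 : Fin 9), true), ((3 : Fin 9), true), ((2 : Fin 9), true), ((1 : Fin 9), true), ((3 : Fin 9), true), ((4 : Fin 9), true), ((5 : Fin 9), true), ((3 : Fin 9), true), ((7 :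 Fin 9), true), ((8 : Fin 9), true), ((3 : Fin 9), true), ((2 : Fin 9), true), ((1 : Fin 9), true), ((3 : Fin 9), true), ((4 : Fin 9), true), ((5 : Fin 9), true), ((3 : Fin 9), true), ((7 : Fin 9), true), ((8 : Fin 9), true), ((3 : Fin 9), true), ((2 : Fin 9), true), ((1 : Fin 9), true), ((3 : Fin 9), true), ((4 : Fin 9), true), ((5 : Fin 9), true), ((3 : Fin 9), true), ((7 : Fin 9), true), ((8 : Fin 9), true), ((3 : Fin 9), true), ((2 : Fin 9), true), ((1 : Fin 9), true), ((3 : Fin 9), true), ((4 : Fin 9), true), ((5 : Fin 9), true), ((3 : Fin 9), true), ((7 : Fin 9), true), ((8 : Fin 9), true), ((3 : Fin 9), true), ((2 : Fin 9), true), ((1 : Fin 9), true), ((3 : Fin 9), true), ((4 : Fin 9), true), ((5 : Fin 9), true), ((3 : Fin 9), true), ((7 : Fin 9), true), ((8 : Fin 9), true), ((3 : Fin 9), true), ((2 : Fin 9), true), ((1 : Fin 9), true), ((3 : Fin 9), true), ((4 : Fin 9), true), ((5 : Fin 9), true), ((3 : Fin 9), true), ((7 : Fin 9), true), ((8 : Fin 9), true)],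
  FreeGroup.mk [((0 : Fin 9), true), ((1 : Fin 9), true), ((2 : Fin 9), true), ((3 : Fin 9), true), ((4 : Fin 9), true), ((5 : Fin 9), true), ((7 : Fin 9), true), ((0 : Fin 9), true), ((1 : Fin 9), true), ((2 : Fin 9), true), ((3 : Fin 9), true), ((4 : Fin 9), true), ((5 : Fin 9), true), ((7 : Fin 9), true), ((0 : Fin 9), true), ((1 : Fin 9), true), ((2 : Fin 9), true), ((3 : Fin 9), true), ((4 : Fin 9), true), ((5 : Fin 9), true), ((7 : Fin 9), true), ((0 : Fin 9), true), ((1 : Fin 9), true), ((2 : Fin 9), true), ((3 : Fin 9), true), ((4 : Fin 9), true), ((5 : Fin 9), true), ((7 : Fin 9), true), ((0 : Fin 9), true), ((1 : Fin 9), true), ((2 : Fin 9), true), ((3 : Fin 9), true), ((4 : Fin 9), true), ((5 : Fin 9), true), ((7 : Fin 9), true), ((0 : Fin 9), true), ((1 : Fin 9), true), ((2 : Fin 9), true), ((3 : Fin 9), true), ((4 : Fin 9), true), ((5 : Fin 9), true), ((7 : Fin 9), true), ((0 : Fin 9), true), ((1 : Fin 9), true), ((2 : Fin 9), true), ((3 : Fin 9), true), ((4 : Fin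 9), true), ((5 : Fin 9), true), ((7 : Fin 9), true), ((0 : Fin 9), true), ((1 : Fin 9), true), ((2 : Fin 9), true), ((3 : Fin 9), true), ((4 : Fin 9), true), ((5 : Fin 9), true), ((7 : Fin 9), true), ((0 : Fin 9), true), ((1 : Fin 9), true), ((2 : Fin 9), true), ((3 : Fin 9), true), ((4 : Fin 9), true), ((5 : Fin 9), true), ((7 : Fin 9), true)]]

/-- The generators of the subgroup, as a map. -/
def iota : Fin 8 → Gen := ![(1 : Fin 9), (2 : Fin 9), (3 : Fin 9), (4 : Fin 9), (5 : Fin 9), (6 : Fin 9), (7 : Fin 9), (8 : Fin 9)]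

/-- The columns: generators with signs. -/
def cols : List (Gen × Bool) := [((0 : Fin 9), true), ((1 : Fin 9), true), ((2 : Fin 9), true), ((3 : Fin 9), true), ((4 : Fin 9), true), ((5 : Fin 9), true), ((6 : Fin 9), true), ((7 : Fin 9), true), ((8 : Fin 9), true)]

/-- The nodes of the graph. -/
def nodes : List Gen := [(0 : Fin 9), (1 : Fin 9), (2 : Fin 9), (3 : Fin 9), (4 : Fin 9), (5 : Fin 9), (6 : Fin 9), (7 : Fin 9), (8 : Fin 9)]

/-- The generators of the subgroup. -/
def sgens : List (FreeGroup Gen) := List.ofFn (fun b : Fin 8 => FreeGroup.of (iota b))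

theorem relWords_eq : relWords = (relList edges extra nodes).map (colWord cols) := by
  decide +kernel

theorem rot_ok : chkRotSrc relWords rotSrc rotT.leaves = true := by decide +kernel

theorem permOK : PermOK tab := ⟨by decide, by decide, hM1⟩

theorem hM2 : ∀ i < tab.n, chkFix tab (mwordsA.map (expand tab.k aux)) i = true :=
  chkFix_expand permOK (by decide) hMA (by decide) hM2A

/-- The certificate. -/
noncomputable def cert : CoxCert edges extra (Set.range (fun b : Fin 8 => FreeGroup.of (iota b))) where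
  cols := cols
  nodes := nodes
  sgens := sgens
  D := tab
  mwords := mwordsA.map (expand tab.k aux)
  hcols := ⟨by decide, by decide, by decide, by decide⟩
  hnodes1 := by decide
  hnodes2 := by decide
  hS := by
    ext s
    rw [Set.mem_ofPred_eq, sgens, List.mem_ofFn, Set.mem_range]
  hk := rfl
  hinv := by decide
  hinv2 := by decide
  hrot := by
    intro i
    have h := chkRotSrc_sound rot_ok _ (rotT.getF_mem_leaves i)
    rw [relWords_eq] at h
    exact h
  hsubs := by decide +kernel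
  hdead := by decide +kernel
  hn0 := by decide
  hrep0 := by decide +kernel
  hE := hE
  hL := hL
  hF := hF
  hC := hC
  hM1 := hM1
  hmw1 := by decide +kernel
  hmw2 := by decide +kernel
  hM2 := hM2
  hM3 := by decide +kernel

theorem cert_n : cert.D.n = 14080 := rfl

end Cfsg.Agent.Helper9.TCData.Fi23C1
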