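import Cfsg.Agent.Lib.Helper9.TCData.Fi23C1.Main

set_option autoImplicit false
set_option maxRecDepth 1000000

namespace Cfsg.Agent.Helper9.TCData.Fi23C1
open Cfsg.Agent.Helper9.TC2

theorem m2_183 : allRange 13725 75 (fun u => chkFix tab mwordsA u) = true := by decide +kernel

theorem m2_184 : allRange 13800 75 (fun u => chkFix tab mwordsA u) = true := by decide +kernel

theorem m2_185 : allRange 13875 75 (fun u => chkFix tab mwordsA u) = true := by decide +kernel

theorem m2_186 : allRange 13950 75 (fun u => chkFix tab mwordsA u) = true := by decide +kernel

theorem m2_187 : allRange 14025 55 (fun u => chkFix tab mwordsA u) = true := by decide +kernel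


end Cfsg.Agent.Helper9.TCData.Fi23C1
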